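import Groth.Agent.Lib.UnipBC21.Fields
import Groth.Agent.Lib.GrpGen20.GeomRed
import Groth.Agent.Lib.PerfProd19.Basic

/-!
# Properties tested after base change to an algebraic closure
-/

set_option autoImplicit false
set_option linter.style.haveILetI false
set_option backward.isDefEq.respectTransparency.types false

universe u

open CategoryTheory Limits MonoidalCategory CartesianMonoidalCategory MonObj AlgebraicGeometry
open Groth.Agent.DiagGL Groth.Agent.TorPts21

noncomputable section

namespace Groth.Agent.UnipBC21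

variable {k : Type u} [Field k]

local notation "ψ₀" => Spec.map (CommRingCat.ofHom (algebraMap k (AlgebraicClosure k)))

/-- Every geometric point of `Spec k` factors through the algebraic closure. -/
theorem exists_factor {Ω : Type u} [Field Ω] [IsAlgClosed Ω]
    (y : Spec (CommRingCat.of Ω) ⟶ Spec (CommRingCat.of k)) :
    ∃ φ : Spec (CommRingCat.of Ω) ⟶ Spec (CommRingCat.of (AlgebraicClosure k)), φ ≫ ψ₀ = y := by
  obtain ⟨g₀, hg₀⟩ := Spec.map_surjective y
  letI : Algebra k Ω := g₀.hom.toAlgebra
  let emb : AlgebraicClosure k →ₐ[k] Ω := IsAlgClosed.lift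
  refine ⟨Spec.map (CommRingCat.ofHom emb.toRingHom), ?_⟩
  rw [← hg₀, ← Spec.map_comp]
  congr 1
  ext x
  exact emb.commutes x

set_option maxHeartbeats 800000 in
/-- Having no subtorus over the algebraic closure gives it on all geometric fibres. -/
theorem hasNoSubtorus_geomFibre_of_algClosure (U : Over (Spec (CommRingCat.of k))) [GrpObj U] [IsAffine U.left]
    [Smooth U.hom] [ConnectedSpace U.left]
    (h : Red.HasNoSubtorus (AlgebraicClosure k) (Red.bc ψ₀ U)) (s : ↥(Spec (CommRingCat.of k))) :
    Red.HasNoSubtorus (AlgebraicClosure ((Spec (CommRingCat.of k)).residueField s)) (Red.geomFibre s U) := by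
  obtain ⟨φ, hφ⟩ := exists_factor (k := k) (Red.geomPt s)
  haveI : IsAffine (Red.bc ψ₀ U).left := BorelFix21.isAffine_bc ψ₀ U
  haveI : Smooth (Red.bc ψ₀ U).hom := BorelFix21.smooth_bc ψ₀ U
  haveI : ConnectedSpace (Red.bc ψ₀ U).left := BorelFix21.connectedSpace_bc ψ₀ U
  let one := 𝟙 (Spec (CommRingCat.of (AlgebraicClosure ((Spec (CommRingCat.of k)).residueField s))))
  obtain ⟨e, he, hm⟩ := exists_comparison one (Red.geomPt s) φ ψ₀ (by simp [one, hφ]) U
  haveI := he
  haveI := hm
  have h1 := hasNoSubtorus_of_mono e (hasNoSubtorus_bc φ (Red.bc ψ₀ U) h)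
  intro T _ t _ _ hT
  exact trivial_of_bc one (h1 (Red.bc one T) ((Over.pullback one).map t) (isTorus_bc one hT))

/-- A scheme which is reduced over the algebraic closure is geometrically reduced. -/
theorem geometricallyReduced_of_algClosure {X : Scheme.{u}} (f : X ⟶ Spec (CommRingCat.of k))
    [IsReduced (pullback f ψ₀)] : GeometricallyReduced f := by
  refine ⟨fun K _ y W fst snd hpb => ?_⟩
  suffices IsReduced (pullback f y) from isReduced_of_isOpenImmersion hpb.isoPullback.hom
  let L := AlgebraicClosure K
  let c : Spec (CommRingCat.of L) ⟶ Spec (CommRingCat.of K) := Spec.map (CommRingCat.ofHom (algebraMap K L))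
  obtain ⟨φ, hφ⟩ := exists_factor (k := k) (c ≫ y)
  haveI := PerfProd19.isReduced_pullback (pullback.snd f ψ₀) φ
  let e : pullback (pullback.snd f y) c ≅ pullback (pullback.snd f ψ₀) φ :=
    pullbackLeftPullbackSndIso f y c ≪≫ pullback.congrHom rfl hφ.symm ≪≫ (pullbackLeftPullbackSndIso f ψ₀ φ).symm
  haveI : IsReduced (pullback (pullback.snd f y) c) := isReduced_of_isOpenImmersion e.hom
  haveI : Surjective c := ⟨fun p => ⟨IsLocalRing.closedPoint L, Subsingleton.elim (α := PrimeSpectrum K) _ _⟩⟩
  let π := pullback.fst (pullback.snd f y) c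
  haveI : Flat π := MorphismProperty.pullback_fst _ _ inferInstance
  haveI : Surjective π := MorphismProperty.pullback_fst _ _ ‹_›
  haveI : Flat (𝟙 _ ≫ π) := by rw [Category.id_comp]; infer_instance
  haveI : Surjective (𝟙 _ ≫ π) := by rw [Category.id_comp]; infer_instance
  exact GrpQuot20.isReduced_of_cover_factor π (𝟙 _)

/-- A scheme which is connected over the algebraic closure is connected. -/
theorem connectedSpace_of_algClosure {X : Scheme.{u}} (f : X ⟶ Spec (CommRingCat.of k))
    [ConnectedSpace ↥(pullback f ψ₀)] : ConnectedSpace X := by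
  haveI : Surjective ψ₀ := ⟨fun p => ⟨IsLocalRing.closedPoint _, Subsingleton.elim (α := PrimeSpectrum k) _ _⟩⟩
  haveI : Surjective (pullback.fst f ψ₀) := MorphismProperty.pullback_fst _ _ ‹_›
  exact (pullback.fst f ψ₀).surjective.connectedSpace (pullback.fst f ψ₀).continuous

end Groth.Agent.UnipBC21
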