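import Groth.Agent.Lib.TorPts21.UnipBorel
import Groth.Agent.Lib.TorPts21.UnipPart
import Groth.Agent.Lib.TorPts21.TorusPairing
import Groth.Agent.Lib.TorPts21.WeylNorm
import Groth.Agent.Lib.TorPts21.RadicalImage
import Groth.Agent.Lib.BorelFix21.BaseChange

/-!
# Having no subtori is invariant under extensions of algebraically closed fields
-/

set_option autoImplicit false
set_option linter.style.haveILetI false
set_option backward.isDefEq.respectTransparency.types false

universe u

open CategoryTheory Limits MonoidalCategory CartesianMonoidalCategory MonObj AlgebraicGeometry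
open Groth.Agent.DiagGL Groth.Agent.TorPts21

noncomputable section

namespace Groth.Agent.UnipBC21

attribute [local instance] InvRing21.gamAlg BorelFix21.ptsTop

/-- A matrix of finite order prime to the characteristic which is unipotent is trivial. -/
theorem eq_one_of_pow_eq_one {Ω : Type u} [Field Ω] {n : ℕ} (M : Matrix (Fin n) (Fin n) Ω) {L : ℕ} (hL : (L : Ω) ≠ 0)
    (h1 : IsNilpotent (M - 1)) (h2 : M ^ L = 1) : M = 1 := by
  let S := ∑ i ∈ Finset.range L, M ^ i
  have hS : S * (M - 1) = 0 := by rw [geom_sum_mul, h2, sub_self]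
  let Q := ∑ i ∈ Finset.range L, ∑ j ∈ Finset.range i, M ^ j
  have hQ : S = (L : Matrix (Fin n) (Fin n) Ω) + (M - 1) * Q := by
    simp only [S, Q, Finset.mul_sum]
    rw [← Finset.sum_congr rfl (fun i _ => Finset.mul_sum (Finset.range i) (fun j => M ^ j) (M - 1))]
    simp only [mul_geom_sum, Finset.sum_sub_distrib, Finset.sum_const, Finset.card_range, nsmul_eq_mul, _root_.mul_one,
      add_sub_cancel]
  have hc : Commute (M - 1) M := (Commute.refl M).sub_left (Commute.one_left M)
  have hcQ : Commute (M - 1) Q :=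
    Commute.sum_right _ _ _ fun i _ => Commute.sum_right _ _ _ fun j _ => hc.pow_right j
  have hu : IsUnit S := by
    rw [hQ]
    refine (hcQ.isNilpotent_mul_right h1).isUnit_add_left_of_commute ?_ (Nat.commute_cast _ _)
    rw [← map_natCast (algebraMap Ω (Matrix (Fin n) (Fin n) Ω)) L]
    exact (IsUnit.mk0 _ hL).map _
  exact sub_eq_zero.1 (hu.mul_right_eq_zero.1 hS)

set_option maxHeartbeats 1000000 in
/-- A smooth connected affine group without subtori has none over a larger algebraically closed field. -/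
theorem hasNoSubtorus_bc {k Ω : Type u} [Field k] [IsAlgClosed k] [Field Ω] [IsAlgClosed Ω]
    (φ : Spec (CommRingCat.of Ω) ⟶ Spec (CommRingCat.of k))
    (U : Over (Spec (CommRingCat.of k))) [GrpObj U] [IsAffine U.left] [Smooth U.hom] [ConnectedSpace U.left]
    (hU : Red.HasNoSubtorus k U) : Red.HasNoSubtorus Ω (Red.bc φ U) := by
  obtain ⟨n, r, hr, hrc, hu⟩ := exists_upper_embedding (𝟙 U) (isSolvableGrp_of_hasNoSubtorus U hU)
  haveI := hr
  haveI := hrc
  have hl := range_le_lay_of_hasNoSubtorus r (fun g hg => hu (by simpa using hg)) hU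
  haveI : Mono r := Over.mono_of_mono_left r
  have hzero : ∀ a b : Fin n, (b : ℕ) < a + 1 → (mat r - 1) a b = 0 := by
    intro a b hab
    refine InvRing21.ext_val fun x => ?_
    have h2 := (MatGrp21.mem_lay.1 (hl ⟨x, rfl⟩)).2 a b hab
    rw [mtx_apply, coe_mtxFn, mtxMat, mat_comp] at h2
    rw [map_zero]
    refine Eq.trans ?_ h2
    by_cases e : a = b
    · simp only [e, Matrix.sub_apply, Matrix.map_apply, map_sub, Matrix.one_apply_eq, map_one]; rfl
    · simp only [Matrix.sub_apply, Matrix.map_apply, map_sub, Matrix.one_apply_ne e, map_zero]; rfl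
  have hnil : (mat r - 1) ^ n = 0 := by
    have h : ∀ i : ℕ, ∀ a b : Fin n, (b : ℕ) < a + i → ((mat r - 1) ^ i) a b = 0 := by
      intro i
      induction i with
      | zero => intro a b h; rw [pow_zero]; exact Matrix.one_apply_ne (by rintro rfl; omega)
      | succ i ih =>
        intro a b h
        rw [pow_succ, Matrix.mul_apply]
        refine Finset.sum_eq_zero fun c _ => ?_
        by_cases hc : (c : ℕ) < a + i
        · rw [ih a c hc, zero_mul]
        · rw [hzero c b (by omega), mul_zero]
    ext a b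
    exact h n a b (by omega)
  intro T _ t _ _ hT
  obtain ⟨hTa, hTs, -, -⟩ := props_of_isTorus hT
  haveI := hTa
  haveI := hTs
  obtain ⟨d, ⟨C⟩⟩ := exists_chars hT
  let F : (VecGrp.pt Ω Ω ⟶ T) →* ((Over.map φ).obj (VecGrp.pt Ω Ω) ⟶ U) :=
    MonoidHom.mk' (fun y => fl φ U (y ≫ t)) fun a b => by rw [MonObj.mul_comp, fl_mul]
  have hFinj : Function.Injective F := fun a b h => (cancel_mono t).1 (fl_injective φ U h)
  have hcop : ∀ (y : VecGrp.pt Ω Ω ⟶ T) (L : ℕ), (L : Ω) ≠ 0 → y ^ L = 1 → y = 1 := by
    intro y L hL hy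
    refine hFinj ((cancel_mono r).1 (mat_injective ?_))
    rw [map_one, MonObj.one_comp, mat_one]
    let e : Γ(((Over.map φ).obj (VecGrp.pt Ω Ω)).left, ⊤) →+* Ω := (Scheme.ΓSpecIso (CommRingCat.of Ω)).hom.hom
    have he : Function.Injective e :=
      (Scheme.ΓSpecIso (CommRingCat.of Ω)).commRingCatIsoToRingEquiv.injective
    refine Matrix.map_injective he ?_
    show (mat (F y ≫ r)).map e = (1 : Matrix _ _ _).map e
    rw [Matrix.map_one e (map_zero _) (map_one _)]
    refine eq_one_of_pow_eq_one _ hL ?_ ?_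
    · refine ⟨n, ?_⟩
      let ψ : Γ(U.left, ⊤) →+* Ω := e.comp (F y).left.appTop.hom
      have e1 : (mat (F y ≫ r)).map e - 1 = ψ.mapMatrix (mat r - 1) := by
        rw [mat_comp, map_sub, map_one]
        rfl
      rw [e1, ← map_pow, hnil, map_zero]
    · let G : ((Over.map φ).obj (VecGrp.pt Ω Ω) ⟶ U) →* Matrix (Fin n) (Fin n) Ω :=
        { toFun := fun x => (mat (x ≫ r)).map e
          map_one' := by rw [MonObj.one_comp, mat_one, Matrix.map_one e (map_zero _) (map_one _)]
          map_mul' := fun a b => by rw [MonObj.mul_comp, mat_mul, Matrix.map_mul] }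
      show G (F y) ^ L = 1
      rw [← map_pow, ← map_pow, hy, map_one, map_one]
  have htors : ∀ (L : ℕ), 0 < L → ∀ y : VecGrp.pt Ω Ω ⟶ T, y ^ L = 1 → y = 1 := by
    intro L
    induction L using Nat.strong_induction_on with
    | _ L ih =>
      intro hL y hy
      by_cases hne : (L : Ω) = 0
      · obtain ⟨p, hp⟩ := CharP.exists Ω
        haveI := hp
        have hdvd : p ∣ L := (CharP.cast_eq_zero_iff Ω p L).1 hne
        have hp0 : p ≠ 0 := fun h => by subst h; simp at hdvd; omega
        haveI : Fact p.Prime := ⟨(CharP.char_is_prime_or_zero Ω p).resolve_right hp0⟩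
        obtain ⟨m, rfl⟩ := hdvd
        have hm : 0 < m := Nat.pos_of_ne_zero fun h => by simp [h] at hL
        have hp2 := (Fact.out : p.Prime).two_le
        refine ih m (by nlinarith) hm y (ptChr_injective C (MonoidHom.ext fun a => ?_))
        have h1 : ptChr C (y ^ (p * m)) a = ptChr C (1 : VecGrp.pt Ω Ω ⟶ T) a := by rw [hy]
        rw [mul_comm, pow_mul, ptChr_pow C _ (by omega)] at h1
        refine frobenius_inj Ω p ?_
        rw [frobenius_def, frobenius_def, h1, ← ptChr_pow C _ (by omega), one_pow]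
      · exact hcop y L hne hy
  refine isTrivialGrp_of_pts fun x => ?_
  have := eq_of_torsion hT (𝟙 T) (1 : T ⟶ T) (fun s ⟨L, hL, hs⟩ => by
    rw [Category.comp_id, MonObj.comp_one]; exact htors L hL s hs) x
  rwa [Category.comp_id, MonObj.comp_one] at this

end Groth.Agent.UnipBC21
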