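import Groth.Agent.Lib.UnipBC21.Basic
import Groth.Agent.Lib.TorPts21.GeomIso

/-!
# Geometric subtori under extensions of the base field
-/

set_option autoImplicit false
set_option linter.style.haveILetI false
set_option backward.isDefEq.respectTransparency.types false

universe u

open CategoryTheory Limits MonoidalCategory CartesianMonoidalCategory MonObj AlgebraicGeometry
open Groth.Agent.DiagGL Groth.Agent.TorPts21

noncomputable section

namespace Groth.Agent.UnipBC21

/-- Two ways of base changing a group along commuting morphisms give the same group. -/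
theorem exists_comparison {S₀ S₁ S₁' S₂ : Scheme.{u}} (a : S₂ ⟶ S₁) (b : S₁ ⟶ S₀) (c : S₂ ⟶ S₁') (d : S₁' ⟶ S₀)
    (h : a ≫ b = c ≫ d) (G : Over S₀) [GrpObj G] :
    ∃ e : Red.bc a (Red.bc b G) ⟶ Red.bc c (Red.bc d G), IsMonHom e ∧ Mono e := by
  let j : ∀ T : Over S₂, (Over.map d).obj ((Over.map c).obj T) ⟶ (Over.map b).obj ((Over.map a).obj T) := fun T =>
    Over.homMk (𝟙 T.left) (by
      show 𝟙 T.left ≫ (T.hom ≫ a) ≫ b = (T.hom ≫ c) ≫ d
      rw [Category.id_comp, Category.assoc, Category.assoc, h])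
  have hj : ∀ T : Over S₂, Epi (j T) := fun T => by
    haveI : Epi (j T).left := inferInstanceAs (Epi (𝟙 T.left))
    exact (Over.forget S₀).epi_of_epi_map (f := j T) ‹_›
  let P : ∀ {T : Over S₂}, (T ⟶ Red.bc c (Red.bc d G)) → ((Over.map d).obj ((Over.map c).obj T) ⟶ G) :=
    fun x => fl d G (fl c (Red.bc d G) x)
  have hPinj : ∀ {T : Over S₂}, Function.Injective (P (T := T)) := fun {T} x y hxy =>
    fl_injective c _ (fl_injective d G hxy)
  let Q : ∀ {T : Over S₂}, (T ⟶ Red.bc a (Red.bc b G)) → ((Over.map b).obj ((Over.map a).obj T) ⟶ G) :=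
    fun x => fl b G (fl a (Red.bc b G) x)
  obtain ⟨z, hz⟩ := fl_surjective d G (j (Red.bc a (Red.bc b G)) ≫ Q (𝟙 _))
  obtain ⟨e, he⟩ := fl_surjective c (Red.bc d G) z
  have hPe : ∀ {T : Over S₂} (x : T ⟶ Red.bc a (Red.bc b G)), P (x ≫ e) = j T ≫ Q x := by
    intro T x
    show fl d G (fl c _ (x ≫ e)) = _
    rw [fl_comp, fl_comp, he, hz]
    conv_rhs => rw [show Q x = Q (x ≫ 𝟙 _) by rw [Category.comp_id]]
    show _ = j T ≫ fl b G (fl a _ (x ≫ 𝟙 _))
    rw [fl_comp, fl_comp, ← Category.assoc, ← Category.assoc]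
    congr 1
  have hmul : ∀ {T : Over S₂} (x y : T ⟶ Red.bc a (Red.bc b G)), (x * y) ≫ e = (x ≫ e) * (y ≫ e) := by
    intro T x y
    refine hPinj ?_
    rw [hPe]
    show j T ≫ fl b G (fl a _ (x * y)) = fl d G (fl c _ ((x ≫ e) * (y ≫ e)))
    rw [fl_mul, fl_mul, fl_mul, fl_mul, MonObj.comp_mul]
    exact congrArg₂ (· * ·) (hPe x).symm (hPe y).symm
  refine ⟨e, ⟨?_, ?_⟩, ⟨fun {T} x y hxy => ?_⟩⟩
  · have h1 := hmul (1 : 𝟙_ _ ⟶ Red.bc a (Red.bc b G)) 1
    rw [_root_.mul_one] at h1
    have h2 := left_eq_mul.1 h1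
    simpa [Hom.one_def] using h2
  · rw [MonObj.mul_eq_mul, hmul, MonObj.mul_eq_mul, MonObj.comp_mul, tensorHom_fst, tensorHom_snd]
  · haveI := hj T
    have h1 := congrArg P hxy
    rw [hPe, hPe, cancel_epi] at h1
    exact fl_injective a _ (fl_injective b G h1)

/-- Having no subtorus passes to groups mapping monomorphically. -/
theorem hasNoSubtorus_of_mono {Ω : Type u} [Field Ω] {X Y : Over (Spec (CommRingCat.of Ω))} [GrpObj X] [GrpObj Y]
    (e : X ⟶ Y) [IsMonHom e] [Mono e] (h : Red.HasNoSubtorus Ω Y) : Red.HasNoSubtorus Ω X := by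
  intro T _ t _ _ hT
  exact h T (t ≫ e) hT

set_option maxHeartbeats 1000000 in
/-- Without subtori over an algebraically closed field implies so over all algebraically closed extensions,
tested on any factorisation of the field extension. -/
theorem hasNoSubtorus_of_geom {k : Type u} [Field k] (U : Over (Spec (CommRingCat.of k))) [GrpObj U] [IsAffine U.left]
    [Smooth U.hom] [ConnectedSpace U.left]
    (h : ∀ s : ↥(Spec (CommRingCat.of k)),
      Red.HasNoSubtorus (AlgebraicClosure ((Spec (CommRingCat.of k)).residueField s)) (Red.geomFibre s U))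
    {Ω : Type u} [Field Ω] [IsAlgClosed Ω] {S₁ : Scheme.{u}} (c : Spec (CommRingCat.of Ω) ⟶ S₁)
    (d : S₁ ⟶ Spec (CommRingCat.of k)) : Red.HasNoSubtorus Ω (Red.bc c (Red.bc d U)) := by
  let s : ↥(Spec (CommRingCat.of k)) := IsLocalRing.closedPoint k
  let E := AlgebraicClosure ((Spec (CommRingCat.of k)).residueField s)
  let ψ := Red.geomPt s
  obtain ⟨a₀, ha₀⟩ := Spec.map_surjective ψ
  obtain ⟨g₀, hg₀⟩ := Spec.map_surjective (c ≫ d)
  letI : Algebra k E := a₀.hom.toAlgebra
  letI : Algebra k Ω := g₀.hom.toAlgebra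
  haveI : Algebra.IsAlgebraic k E := by
    let κ := (Spec (CommRingCat.of k)).residueField s
    have hiso : IsIso ((Spec (CommRingCat.of k)).fromSpecResidueField s) := by
      haveI : IsClosedImmersion ((Spec (CommRingCat.of k)).fromSpecResidueField s) :=
        IsClosedImmersion.of_isPreimmersion _ (by
          rw [Scheme.range_fromSpecResidueField]
          exact (Set.subsingleton_singleton).isClosed)
      haveI : Surjective ((Spec (CommRingCat.of k)).fromSpecResidueField s) :=
        ⟨fun y => ⟨IsLocalRing.closedPoint _, Subsingleton.elim _ _⟩⟩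
      haveI : IsReduced (Spec (CommRingCat.of k)) := inferInstance
      exact isIso_of_isClosedImmersion_of_surjective _
    obtain ⟨b₀, hb₀⟩ := Spec.map_surjective ((Spec (CommRingCat.of k)).fromSpecResidueField s)
    haveI : IsIso (Spec.map b₀) := hb₀ ▸ hiso
    haveI : IsIso b₀ := by
      haveI : IsIso (Scheme.Spec.map b₀.op) := ‹IsIso (Spec.map b₀)›
      haveI : IsIso b₀.op := isIso_of_reflects_iso b₀.op Scheme.Spec
      exact isIso_of_op b₀
    have ha : a₀ = b₀ ≫ CommRingCat.ofHom (algebraMap κ E) := Spec.map_injective (by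
      rw [ha₀, Spec.map_comp, hb₀]; rfl)
    refine ⟨fun x => IsAlgebraic.of_ringHom_of_comp_eq b₀.hom (RingHom.id E)
      (Algebra.IsAlgebraic.isAlgebraic (R := κ) ((RingHom.id E) x))
      (ConcreteCategory.bijective_of_isIso b₀).surjective Function.injective_id ?_⟩
    have h2 := congrArg CommRingCat.Hom.hom ha
    exact RingHom.ext fun z => (DFunLike.congr_fun h2 z).symm
  let emb : E →ₐ[k] Ω := IsAlgClosed.lift
  let φ : Spec (CommRingCat.of Ω) ⟶ Spec (CommRingCat.of E) := Spec.map (CommRingCat.ofHom emb.toRingHom)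
  have hcomp : c ≫ d = φ ≫ ψ := by
    rw [← hg₀, ← ha₀, ← Spec.map_comp]
    congr 1
    ext x
    exact (emb.commutes x).symm
  haveI : IsAffine (Red.bc ψ U).left := BorelFix21.isAffine_bc ψ U
  haveI : Smooth (Red.bc ψ U).hom := BorelFix21.smooth_bc ψ U
  haveI : ConnectedSpace (Red.bc ψ U).left := BorelFix21.connectedSpace_bc ψ U
  have h1 : Red.HasNoSubtorus Ω (Red.bc φ (Red.bc ψ U)) := hasNoSubtorus_bc φ (Red.bc ψ U) (h s)
  obtain ⟨e, he, hm⟩ := exists_comparison c d φ ψ hcomp U
  haveI := he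
  haveI := hm
  exact hasNoSubtorus_of_mono e h1

/-- Geometric absence of subtori is stable under extension of the base field. -/
theorem hasNoSubtorus_geomFibre_bc {k K : Type u} [Field k] [Field K]
    (f : Spec (CommRingCat.of K) ⟶ Spec (CommRingCat.of k)) (U : Over (Spec (CommRingCat.of k))) [GrpObj U]
    [IsAffine U.left] [Smooth U.hom] [ConnectedSpace U.left]
    (h : ∀ s : ↥(Spec (CommRingCat.of k)),
      Red.HasNoSubtorus (AlgebraicClosure ((Spec (CommRingCat.of k)).residueField s)) (Red.geomFibre s U))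
    (s' : ↥(Spec (CommRingCat.of K))) :
    Red.HasNoSubtorus (AlgebraicClosure ((Spec (CommRingCat.of K)).residueField s')) (Red.geomFibre s' (Red.bc f U)) :=
  hasNoSubtorus_of_geom U h (Red.geomPt s') f

end Groth.Agent.UnipBC21
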